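import Cfsg.Agent.Lib.BlocksCore.SecondMain
import Cfsg.Agent.Lib.BlocksCore.WeakOrth
import Cfsg.Agent.Lib.BlocksDefect.Kernel
import Cfsg.Agent.Lib.BlocksDefect.PrincipalSection
import Cfsg.Agent.Lib.Coprime.Action
import Cfsg.Agent.Lib.PGroup.Basic
import Cfsg.Agent.Lib.Thompson.Cores
import Cfsg.Agent.BC86.PRegular
import Cfsg.Agent.BC87.Basic

/-!
# Principal blocks meeting trivially

If the principal `p`- and `q`-blocks have only the principal character in common then, the
indicator of the `q`-regular elements lying in the span of the principal `q`-block, the class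
size of every `p`-element divides the number of `q`-regular elements, so is prime to `q`.
If this holds for every `q ≠ p`, the Sylow `p`-subgroup is a direct factor.
-/

set_option autoImplicit false

namespace Cfsg.Agent.Sep52

open BlocksCore BlocksDefect
open scoped ComplexConjugate Pointwise commutatorElement

variable {G : Type*} [Group G] [Finite G] {p : ℕ} [hp : Fact p.Prime] {Mp : Ideal AlgInt}

/-- The class of a `p`-element has size prime to `q`. -/
theorem not_dvd_index_of_meet {q : ℕ} [Fact q.Prime] {Mq : Ideal AlgInt}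
    (hMp : IsPModular p Mp) (hMq : IsPModular q Mq)
    (h : ∀ χ : IrrCharacter G, χ ∈ principalBlock Mp G → χ ∈ principalBlock Mq G →
      (χ : G → ℂ) = fun _ => 1)
    {x : G} (hx : ∃ k : ℕ, orderOf x = p ^ k) :
    ¬ q ∣ (Subgroup.centralizer ({x} : Set G)).index := by
  classical
  haveI := Fintype.ofFinite G
  haveI := isPrime hMp
  haveI := isPrime hMq
  haveI := finite_irr (G := G)
  haveI := Fintype.ofFinite (IrrCharacter G)
  set B := principalBlock Mp G with hB
  have hB' : IsPBlock Mp B := isPBlock_principal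
  let Φ : G → ℂ := fun g =>
    ∑ χ ∈ Finset.univ.filter (· ∈ B), (χ : G → ℂ) g * (χ : G → ℂ) x⁻¹
  have hxx : IsPPart p x x :=
    ⟨1, mul_one x, Commute.one_right x, hx, by rw [orderOf_one]; exact hMp.1.not_dvd_one⟩
  have hcls : ∀ g c, Φ (c * g * c⁻¹) = Φ g := fun g c =>
    Finset.sum_congr rfl fun χ _ => by rw [irr_class χ g c]
  have hint : ∀ g, IsIntegral ℤ (Φ g) := fun g =>
    IsIntegral.sum _ fun χ _ => (isIntegral_irr χ g).mul (isIntegral_irr χ x⁻¹)
  choose π hπ using fun g : G => exists_pPart hMp.1 g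
  have hzero : ∀ g, ¬ IsConj (π g) x → Φ g = 0 := fun g hg => by
    have h0 := blockOrth_sections hMp hB' (hπ g) hxx hg
    rw [finsum_mem_eq_finite_toFinset_sum _ (Set.toFinite B)] at h0
    rw [← h0]
    exact Finset.sum_congr (by ext; simp) fun _ _ => rfl
  let R : Finset G := Finset.univ.filter fun g => ¬ q ∣ orderOf g
  let one : IrrCharacter G := oneIrr G
  have one_mem : one ∈ Finset.univ.filter (· ∈ B) :=
    Finset.mem_filter.2 ⟨Finset.mem_univ _, oneIrr_mem⟩
  -- the sum of `Φ` over the `q`-regular elements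
  have hsum : ∑ g ∈ R, Φ g = (R.card : ℂ) := by
    simp only [Φ]
    rw [Finset.sum_comm, Finset.sum_eq_single one]
    · simp [one, coe_oneIrr]
    · intro χ hχ hne
      have hnot : ¬ SameBlock Mq (one : G → ℂ) (χ : G → ℂ) := fun hs =>
        hne (Subtype.ext (by rw [h χ (Finset.mem_filter.1 hχ).2 hs]; rfl))
      have h0 := sum_pRegular_mul_conj hMq one χ hnot
      rw [finsum_mem_eq_finite_toFinset_sum _ (Set.toFinite _)] at h0
      simp only [one, coe_oneIrr, one_mul] at h0
      have h1 : ∑ g ∈ R, conj ((χ : G → ℂ) g) = 0 := by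
        rw [← h0]
        exact Finset.sum_congr (by ext; simp [R]) fun _ _ => rfl
      have h2 := congrArg conj h1
      simp only [map_sum, Complex.conj_conj, map_zero] at h2
      rw [← Finset.sum_mul, h2, zero_mul]
    · exact fun hn => absurd one_mem hn
  -- group the sum by `p`-part
  let K : Finset G := Finset.univ.filter fun z => IsConj z x
  let s : ℂ := ∑ g ∈ R.filter (fun g => π g = x), Φ g
  have hfib : ∀ z ∈ K, ∑ g ∈ R.filter (fun g => π g = z), Φ g = s := by
    intro z hz
    obtain ⟨c, hc⟩ := isConj_iff.1 (Finset.mem_filter.1 hz).2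
    refine Finset.sum_equiv (MulAut.conj c).toEquiv (fun g => ?_) (fun g _ => (hcls g c).symm)
    have e : π (c * g * c⁻¹) = c * π g * c⁻¹ :=
      isPPart_unique hMp.1 (hπ _) (isPPart_conj (hπ g) c)
    simp only [Finset.mem_filter, R, Finset.mem_univ, true_and, MulEquiv.toEquiv_eq_coe,
      EquivLike.coe_coe, MulAut.conj_apply, e, ← hc, mul_left_inj, mul_right_inj]
    rw [show orderOf (c * g * c⁻¹) = orderOf g from MulEquiv.orderOf_eq (MulAut.conj c) g]
  have hK : (K.card : ℂ) * s = (R.card : ℂ) := by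
    rw [← hsum, ← Finset.sum_fiberwise R π Φ, ← nsmul_eq_mul, ← Finset.sum_const]
    refine (Finset.sum_congr rfl fun z hz => (hfib z hz).symm).trans
      (Finset.sum_subset (Finset.subset_univ K) fun z _ hz => Finset.sum_eq_zero fun g hg =>
        hzero g fun hc => hz (Finset.mem_filter.2 ⟨Finset.mem_univ _, ?_⟩))
    rwa [← (Finset.mem_filter.1 hg).2]
  have hidx : (Subgroup.centralizer ({x} : Set G)).index = K.card := by
    rw [← Nat.card_congr (MulAction.orbitEquivQuotientStabilizer (ConjAct G) x) |>.trans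
      (?_ : Nat.card (ConjAct G ⧸ MulAction.stabilizer (ConjAct G) x) =
        (Subgroup.centralizer ({x} : Set G)).index)]
    · rw [Nat.card_eq_fintype_card, ← Set.toFinset_card]
      congr 1
      ext z
      simp [K, ConjAct.mem_orbit_conjAct]
    · show (MulAction.stabilizer (ConjAct G) x).index = _
      rw [ConjAct.stabilizer_eq_centralizer]
      rfl
  intro hdvd
  have hKpos : (K.card : ℂ) ≠ 0 := by
    have : 0 < K.card := Finset.card_pos.2 ⟨x, Finset.mem_filter.2 ⟨Finset.mem_univ _, IsConj.refl x⟩⟩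
    exact_mod_cast this.ne'
  have hs : IsIntegral ℤ s := IsIntegral.sum _ fun g _ => hint g
  have hsq : s = ((((R.card : ℚ) / K.card) : ℚ) : ℂ) := by
    push_cast
    field_simp
    rw [mul_comm]
    exact hK
  rw [hsq] at hs
  have hs' : IsIntegral ℤ ((R.card : ℚ) / K.card) :=
    (isIntegral_algebraMap_iff (algebraMap ℚ ℂ).injective).1 hs
  obtain ⟨n, hn⟩ := IsIntegrallyClosed.isIntegral_iff.1 hs'
  have hKR : K.card ∣ R.card := by
    have hKq : (K.card : ℚ) ≠ 0 := by exact_mod_cast (fun h0 => hKpos (by exact_mod_cast h0))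
    rw [eq_div_iff hKq] at hn
    rw [show (algebraMap ℤ ℚ) n = (n : ℚ) from rfl] at hn
    have : (n : ℤ) * K.card = R.card := by exact_mod_cast hn
    exact_mod_cast (Dvd.intro_left n this : (K.card : ℤ) ∣ R.card)
  refine BC86.not_dvd_card_pRegular (G := G) (p := q) ?_
  have : R.card = Nat.card {g : G // ¬ q ∣ orderOf g} := by
    rw [Nat.card_eq_fintype_card, Fintype.card_subtype]
  rw [← this]
  exact (hidx ▸ hdvd).trans hKR

/-- Classes of `p`-power size: the Sylow `p`-subgroup is a direct factor. -/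
theorem directFactor_of_index (P : Sylow p G)
    (h : ∀ x : G, (∃ k : ℕ, orderOf x = p ^ k) →
      ∃ k : ℕ, (Subgroup.centralizer ({x} : Set G)).index = p ^ k) :
    (P : Subgroup G).Normal ∧ (P : Subgroup G) ⊔ Cfsg.pPrimeCore p G = ⊤ := by
  classical
  have hpe : ∀ x ∈ (P : Subgroup G), ∃ k : ℕ, orderOf x = p ^ k := fun x hx => by
    obtain ⟨k, hk⟩ := IsPGroup.iff_orderOf.1 P.2 ⟨x, hx⟩
    exact ⟨k, by rwa [← Subgroup.orderOf_coe] at hk⟩
  -- normality
  have hcore : (P : Subgroup G) ≤ Cfsg.pCore p G := by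
    intro x hx
    obtain ⟨k, hk⟩ := h x (hpe x hx)
    set C := Subgroup.centralizer ({x} : Set G) with hC
    have hrel : C.index ≤ C.relIndex (P : Subgroup G) := by
      obtain ⟨j, hj⟩ := IsPGroup.iff_card.1 (P.2.to_le (inf_le_right : C ⊓ (P : Subgroup G) ≤ _))
      have hjC : p ^ j ≤ p ^ (Nat.card C).factorization p := Nat.pow_le_pow_right hp.1.pos
        ((hp.1.pow_dvd_iff_le_factorization Nat.card_pos.ne').1
          (hj ▸ Subgroup.card_dvd_of_le (inf_le_left : C ⊓ (P : Subgroup G) ≤ C)))
      have hPc : Nat.card (P : Subgroup G) = p ^ k * p ^ (Nat.card C).factorization p := by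
        rw [P.card_eq_multiplicity, ← C.index_mul_card, hk,
          Nat.factorization_mul (pow_ne_zero _ hp.1.ne_zero) Nat.card_pos.ne',
          hp.1.factorization_pow, Finsupp.add_apply, Finsupp.single_eq_same, pow_add]
      have hm : C.relIndex (P : Subgroup G) * p ^ j = Nat.card (P : Subgroup G) := by
        rw [← hj, ← Subgroup.inf_relIndex_right,
          ← Nat.card_congr (Subgroup.subgroupOfEquivOfLe
            (inf_le_right : C ⊓ (P : Subgroup G) ≤ P)).toEquiv]
        exact Subgroup.index_mul_card _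
      rw [hk]
      refine Nat.le_of_mul_le_mul_right ?_ (pow_pos hp.1.pos j)
      rw [hm, hPc]
      exact Nat.mul_le_mul_left _ hjC
    have htop : ∀ g : G, ∃ u ∈ (P : Subgroup G), u⁻¹ * g ∈ C := by
      intro g
      have hstab : MulAction.stabilizer (P : Subgroup G) ((1 : G) : G ⧸ C) =
          C.subgroupOf (P : Subgroup G) := by
        ext u
        rw [MulAction.mem_stabilizer_iff, Subgroup.mem_subgroupOf]
        show (((u : G) * 1 : G) : G ⧸ C) = _ ↔ _
        rw [mul_one, QuotientGroup.eq, mul_one, inv_mem_iff]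
      have horb : MulAction.orbit (P : Subgroup G) ((1 : G) : G ⧸ C) = Set.univ := by
        apply Set.eq_of_subset_of_ncard_le (Set.subset_univ _) ?_ (Set.toFinite _)
        rw [Set.ncard_univ, ← MulAction.index_stabilizer, hstab]
        exact hrel
      obtain ⟨u, hu⟩ := (horb ▸ Set.mem_univ _ : ((g : G) : G ⧸ C) ∈ _)
      refine ⟨u, u.2, ?_⟩
      have hu' : (((u : G) * 1 : G) : G ⧸ C) = (g : G ⧸ C) := hu
      rwa [mul_one, QuotientGroup.eq] at hu'
    have hnc : Subgroup.normalClosure {x} ≤ (P : Subgroup G) := by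
      rw [Subgroup.normalClosure, Subgroup.closure_le]
      intro z hz
      obtain ⟨a, ha, hz⟩ := Group.mem_conjugatesOfSet_iff.1 hz
      rw [Set.mem_singleton_iff] at ha
      rw [ha] at hz
      obtain ⟨g, rfl⟩ := isConj_iff.1 hz
      obtain ⟨u, hu, hc⟩ := htop g
      have hcx : (u⁻¹ * g) * x * (u⁻¹ * g)⁻¹ = x := by
        rw [(Subgroup.mem_centralizer_singleton_iff.1 hc), mul_inv_cancel_right]
      have e : g * x * g⁻¹ = u * x * u⁻¹ := by
        conv_rhs => rw [← hcx]
        group
      show g * x * g⁻¹ ∈ (P : Subgroup G)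
      rw [e]
      exact mul_mem (mul_mem hu hx) (inv_mem hu)
    exact Thompson.le_pCore (Subgroup.normalClosure_normal) (P.2.to_le hnc)
      (Subgroup.subset_normalClosure rfl)
  have hPn : (P : Subgroup G).Normal := by
    have e : Cfsg.pCore p G = (P : Subgroup G) := P.3 (Thompson.isPGroup_pCore (p := p)) hcore
    rw [← e]
    exact Thompson.instPCoreNormal
  refine ⟨hPn, ?_⟩
  -- a complement centralises `P`
  obtain ⟨H, hH⟩ := Subgroup.exists_right_complement'_of_coprime P.card_coprime_index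
  have hHp : ¬ p ∣ Nat.card H := by
    have e : Nat.card H = (P : Subgroup G).index := hH.symm.index_eq_card.symm
    rw [e]
    exact P.not_dvd_index
  have hHC : H ≤ Subgroup.centralizer ((P : Subgroup G) : Set G) := by
    refine Coprime.le_centralizer_of_frattini H _ Subgroup.le_normalizer_of_normal ?_ ?_
    · obtain ⟨n, hn⟩ := IsPGroup.iff_card.1 (P.2.to_le (H := (frattini (P : Subgroup G)).map
        (P : Subgroup G).subtype) (Subgroup.map_subtype_le _))
      rw [Subgroup.card_map_of_injective (P : Subgroup G).subtype_injective] at hn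
      rw [hn]
      exact Nat.Coprime.pow_right _ ((hp.1.coprime_iff_not_dvd.2 hHp).symm)
    intro a ha x hx
    set C := Subgroup.centralizer ({x} : Set G) with hC
    obtain ⟨k, hk⟩ := h x (hpe x hx)
    have htop : C ⊔ (P : Subgroup G) = ⊤ := by
      rw [← Subgroup.index_eq_one]
      have d1 : (C ⊔ (P : Subgroup G)).index ∣ p ^ k := hk ▸ Subgroup.index_dvd_of_le le_sup_left
      have d2 : (C ⊔ (P : Subgroup G)).index ∣ (P : Subgroup G).index :=
        Subgroup.index_dvd_of_le le_sup_right
      exact Nat.eq_one_of_dvd_coprimes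
        (Nat.Coprime.pow_left k (hp.1.coprime_iff_not_dvd.2 P.not_dvd_index)) d1 d2
    obtain ⟨u, hu, c, hc, rfl⟩ : a ∈ ((P : Subgroup G) : Set G) * (C : Set G) := by
      rw [← Subgroup.normal_mul, sup_comm, htop]
      trivial
    have hcx : c * x * c⁻¹ = x := by
      rw [(Subgroup.mem_centralizer_singleton_iff.1 hc), mul_inv_cancel_right]
    have e : u * c * x * (u * c)⁻¹ * x⁻¹ = ⁅u, x⁆ := by
      rw [commutatorElement_def, mul_inv_rev, ← mul_assoc (u * c * x), mul_assoc u c x,
        mul_assoc u (c * x), hcx]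
    rw [e]
    refine ⟨⁅(⟨u, hu⟩ : (P : Subgroup G)), ⟨x, hx⟩⁆, ?_, rfl⟩
    exact PGroup.commutator_le_frattini P.2
      (Subgroup.commutator_mem_commutator (Subgroup.mem_top _) (Subgroup.mem_top _))
  have hHn : H.Normal := by
    rw [← Subgroup.normalizer_eq_top_iff, eq_top_iff, ← hH.sup_eq_top, sup_le_iff]
    refine ⟨fun u hu => ?_, Subgroup.le_normalizer⟩
    have hfix : ∀ a ∈ H, u * a * u⁻¹ = a := fun a ha => by
      rw [Subgroup.mem_centralizer_iff.1 (hHC ha) u hu, mul_inv_cancel_right]
    rw [Subgroup.mem_normalizer_iff]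
    intro a
    refine ⟨fun ha => by rwa [hfix a ha], fun ha => ?_⟩
    have e := hfix _ ha
    have : u * a * u⁻¹ = a := mul_left_cancel (mul_right_cancel e)
    rwa [this] at ha
  rw [eq_top_iff, ← hH.sup_eq_top]
  exact sup_le_sup_left (Thompson.le_pPrimeCore hHn ((hp.1.coprime_iff_not_dvd.2 hHp).symm)) _

/-- If the Sylow `p`-subgroup is a direct factor, the principal blocks meet trivially. -/
theorem meet_of_directFactor {q : ℕ} [Fact q.Prime] {Mq : Ideal AlgInt}
    (hMp : IsPModular p Mp) (hMq : IsPModular q Mq) (hqp : q ≠ p) (P : Sylow p G)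
    (hn : (P : Subgroup G).Normal) (htop : (P : Subgroup G) ⊔ Cfsg.pPrimeCore p G = ⊤)
    {χ : IrrCharacter G} (h1 : χ ∈ principalBlock Mp G) (h2 : χ ∈ principalBlock Mq G) :
    (χ : G → ℂ) = fun _ => 1 := by
  haveI := isPrime hMp
  haveI := isPrime hMq
  haveI := Fintype.ofFinite G
  have kP : ∀ u ∈ (P : Subgroup G), (χ : G → ℂ) u = (χ : G → ℂ) 1 :=
    kernel_of_sameBlock hMq (χ := oneIrr G) h2 _ (fun hd => by
      obtain ⟨n, hn⟩ := IsPGroup.iff_card.1 P.2
      rw [hn] at hd
      exact hqp ((Nat.prime_dvd_prime_iff_eq (Fact.out) hp.1).1 ((Fact.out : q.Prime).dvd_of_dvd_pow hd)))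
      fun _ _ => rfl
  have kK : ∀ u ∈ Cfsg.pPrimeCore p G, (χ : G → ℂ) u = (χ : G → ℂ) 1 :=
    kernel_of_sameBlock hMp (χ := oneIrr G) h1 _ Thompson.not_dvd_card_pPrimeCore fun _ _ => rfl
  have hker : BC87.kerChar χ = ⊤ := by
    rw [eq_top_iff, ← htop]
    exact sup_le kP kK
  have hall : ∀ g, (χ : G → ℂ) g = (χ : G → ℂ) 1 := fun g =>
    BC87.mem_kerChar.1 (hker ▸ Subgroup.mem_top g)
  by_contra hne
  have hne' : χ ≠ oneIrr G := fun e => hne (by rw [e]; rfl)
  have h0 := sum_char_mul_inv χ (oneIrr G)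
  rw [if_neg hne'] at h0
  simp only [coe_oneIrr, mul_one, hall, Finset.sum_const, Finset.card_univ, nsmul_eq_mul] at h0
  exact irr_one_ne_zero χ ((mul_eq_zero.1 h0).resolve_left (Nat.cast_ne_zero.2 Fintype.card_ne_zero))

end Cfsg.Agent.Sep52
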